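import Mathlib.RingTheory.Flat.Tensor
import Mathlib.RingTheory.Flat.Stability
import Mathlib.LinearAlgebra.TensorProduct.RightExactness
import Mathlib.LinearAlgebra.TensorProduct.Quotient
import Mathlib.RingTheory.TensorProduct.Basic
import Mathlib.RingTheory.Nilpotent.Defs
import Mathlib.Algebra.Module.Torsion.Basic
import Mathlib.LinearAlgebra.TensorProduct.Basic

/-!
# Flatness criteria along an ideal (nilpotent case)

`flat_of_flat_quotient_of_rTensor_injective`: the local criterion of flatness for a nilpotent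
ideal. `flat_of_flat_quotient_of_finite_family`: flatness can be checked on a finite jointly
injective family of algebras once it holds modulo a nilpotent ideal.
-/

open TensorProduct Function

namespace Groth.EGA43Flat

universe u v w

variable {A : Type u} [CommRing A]

section Criterion

variable {I : Ideal A} {M : Type v} [AddCommGroup M] [Module A M]

/-- Injections of modules killed by `I` stay injective after tensoring with a module that is flat
modulo `I`. -/
lemma rTensor_injective_of_smul_eq_bot [Module.Flat (A ⧸ I) ((A ⧸ I) ⊗[A] M)]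
    {N N' : Type*} [AddCommGroup N] [Module A N] [AddCommGroup N'] [Module A N']
    (f : N →ₗ[A] N') (hf : Injective f) (hN' : ∀ a ∈ I, ∀ x : N', a • x = 0) :
    Injective (f.rTensor M) := by
  have hN : ∀ a ∈ I, ∀ x : N, a • x = 0 :=
    fun a ha x => hf (by rw [map_smul, hN' a ha, map_zero])
  have tN : Module.IsTorsionBySet A N (I : Set A) := fun x a => hN a a.2 x
  have tN' : Module.IsTorsionBySet A N' (I : Set A) := fun x a => hN' a a.2 x
  letI := tN.module
  letI := tN'.module
  haveI := tN.isScalarTower (S := A)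
  haveI := tN'.isScalarTower (S := A)
  let f' : N →ₗ[A ⧸ I] N' :=
    { toFun := f
      map_add' := map_add f
      map_smul' := fun r x => by
        obtain ⟨a, rfl⟩ := Ideal.Quotient.mk_surjective r
        exact map_smul f a x }
  have h : Injective (f'.rTensor ((A ⧸ I) ⊗[A] M)) :=
    Module.Flat.rTensor_preserves_injective_linearMap f' hf
  let e := AlgebraTensorModule.cancelBaseChange A (A ⧸ I) (A ⧸ I) N M
  let e' := AlgebraTensorModule.cancelBaseChange A (A ⧸ I) (A ⧸ I) N' M
  have hcomm : ∀ z, f.rTensor M z = e' (f'.rTensor ((A ⧸ I) ⊗[A] M) (e.symm z)) := by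
    intro z
    induction z with
    | zero => simp
    | tmul n m => simp [e, e', f']
    | add a b ha hb => simp [map_add, ha, hb]
  intro z z' hz
  rw [hcomm, hcomm] at hz
  exact e.symm.injective (h (e'.injective hz))

lemma rTensor_injective_of_quotient_killed_aux [Module.Flat (A ⧸ I) ((A ⧸ I) ⊗[A] M)]
    (hI : Injective (I.subtype.rTensor M))
    {B : Type*} [AddCommGroup B] [Module A B] (B' : Submodule A B)
    (hB : ∀ a ∈ I, ∀ x : B, a • x ∈ B')
    {F : Type*} [AddCommGroup F] [Module A F] [Module.Flat A F]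
    (g : F →ₗ[A] B) (hg : Surjective g) :
    Injective (B'.subtype.rTensor M) := by
  let K : Submodule A F := B'.comap g
  -- `I ⊗ F → F` has range in `K`, and `K/(IF)` injects in `F/(IF)`
  let μ : F ⊗[A] I →ₗ[A] F :=
    (TensorProduct.rid A F).toLinearMap ∘ₗ I.subtype.lTensor F
  have hμK : ∀ z, μ z ∈ K := by
    intro z
    induction z with
    | zero => simp
    | tmul x a => simpa [μ, K] using hB a a.2 (g x)
    | add a b ha hb => simpa only [map_add] using K.add_mem ha hb
  let μK : F ⊗[A] I →ₗ[A] K := μ.codRestrict K hμK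
  have hKF : Injective (K.subtype.rTensor M) := by
    rw [injective_iff_map_eq_zero]
    intro t ht
    let R := LinearMap.range μ
    let q : K →ₗ[A] F ⧸ R := R.mkQ ∘ₗ K.subtype
    let i : LinearMap.range q →ₗ[A] F ⧸ R := (LinearMap.range q).subtype
    have hi : Injective (i.rTensor M) := by
      refine rTensor_injective_of_smul_eq_bot (I := I) i Subtype.val_injective fun a ha x => ?_
      obtain ⟨y, rfl⟩ := Submodule.Quotient.mk_surjective _ x
      rw [← Submodule.Quotient.mk_smul, Submodule.Quotient.mk_eq_zero]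
      exact ⟨y ⊗ₜ ⟨a, ha⟩, by simp [μ]⟩
    have hex : Exact μK q.rangeRestrict := by
      intro k
      constructor
      · intro hk
        obtain ⟨z, hz⟩ : (k : F) ∈ R :=
          (Submodule.Quotient.mk_eq_zero R).1 (congrArg Subtype.val hk : q k = 0)
        exact ⟨z, Subtype.ext hz⟩
      · rintro ⟨z, rfl⟩
        exact Subtype.ext ((Submodule.Quotient.mk_eq_zero R).2 ⟨z, rfl⟩)
    have h0 : (q.rangeRestrict).rTensor M t = 0 := by
      refine hi ?_
      rw [map_zero, ← LinearMap.rTensor_comp_apply]
      show (R.mkQ ∘ₗ K.subtype).rTensor M t = 0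
      rw [LinearMap.rTensor_comp_apply, ht, map_zero]
    obtain ⟨w, rfl⟩ := (rTensor_exact M hex q.surjective_rangeRestrict t).1 h0
    suffices w = 0 by rw [this, map_zero]
    have hμ : Injective (μ.rTensor M) := by
      have h1 : Injective ((I.subtype.rTensor M).lTensor F) :=
        Module.Flat.lTensor_preserves_injective_linearMap _ hI
      have h2 : μ.rTensor M = (TensorProduct.rid A F).toLinearMap.rTensor M ∘ₗ
          (TensorProduct.assoc A F A M).symm.toLinearMap ∘ₗ
          (I.subtype.rTensor M).lTensor F ∘ₗ (TensorProduct.assoc A F I M).toLinearMap := by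
        ext x a m
        simp [μ]
      rw [h2]
      exact (LinearEquiv.rTensor M (TensorProduct.rid A F)).injective.comp
        ((TensorProduct.assoc A F A M).symm.injective.comp
          (h1.comp (TensorProduct.assoc A F I M).injective))
    refine hμ ?_
    rw [map_zero, ← ht, ← LinearMap.rTensor_comp_apply]
    rfl
  -- transfer from `(K ⊆ F)` to `(B' ⊆ B)`
  rw [injective_iff_map_eq_zero]
  intro t ht
  let gK : K →ₗ[A] B' := (g ∘ₗ K.subtype).codRestrict B' fun k => k.2
  have hgK : Surjective gK := fun b => by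
    obtain ⟨x, hx⟩ := hg b.1
    exact ⟨⟨x, show g x ∈ B' from hx.symm ▸ b.2⟩, Subtype.ext hx⟩
  let N := LinearMap.ker g
  have hex : Exact N.subtype g := LinearMap.exact_subtype_ker_map g
  let NK : N →ₗ[A] K := N.subtype.codRestrict K fun n => by
    show g n ∈ B'
    rw [LinearMap.mem_ker.1 n.2]
    exact B'.zero_mem
  obtain ⟨s, rfl⟩ := LinearMap.rTensor_surjective M hgK t
  have h1 : g.rTensor M (K.subtype.rTensor M s) = 0 := by
    rw [← ht, ← LinearMap.rTensor_comp_apply, ← LinearMap.rTensor_comp_apply]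
    rfl
  obtain ⟨r, hr⟩ := (rTensor_exact M hex hg _).1 h1
  have : NK.rTensor M r = s := by
    refine hKF ?_
    rw [← LinearMap.rTensor_comp_apply, ← hr]
    rfl
  rw [← this, ← LinearMap.rTensor_comp_apply]
  suffices gK ∘ₗ NK = 0 by simp [this]
  ext n
  exact LinearMap.mem_ker.1 n.2

/-- A module flat modulo `I` with `I ⊗ M → M` injective has no `Tor₁` against modules killed
by `I`. -/
lemma rTensor_injective_of_quotient_killed [Module.Flat (A ⧸ I) ((A ⧸ I) ⊗[A] M)]
    (hI : Injective (I.subtype.rTensor M))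
    {B : Type*} [AddCommGroup B] [Module A B] (B' : Submodule A B)
    (hB : ∀ a ∈ I, ∀ x : B, a • x ∈ B') :
    Injective (B'.subtype.rTensor M) :=
  rTensor_injective_of_quotient_killed_aux hI B' hB (Finsupp.linearCombination A id)
    (Finsupp.linearCombination_id_surjective A B)

/-- Local criterion of flatness for a nilpotent ideal. -/
theorem flat_of_flat_quotient_of_rTensor_injective (hnil : IsNilpotent I)
    [Module.Flat (A ⧸ I) ((A ⧸ I) ⊗[A] M)] (hI : Injective (I.subtype.rTensor M)) :
    Module.Flat A M := by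
  rw [Module.Flat.iff_rTensor_injective']
  intro a
  obtain ⟨n, hn⟩ := hnil
  suffices ∀ k, Injective ((a ⊔ I ^ k).subtype.rTensor M) by
    have h := this n
    rwa [hn, Ideal.zero_eq_bot, sup_bot_eq] at h
  intro k
  induction k with
  | zero =>
    rw [pow_zero, Ideal.one_eq_top, sup_top_eq]
    exact (LinearEquiv.rTensor M Submodule.topEquiv).injective
  | succ k ih =>
    have hle : a ⊔ I ^ (k + 1) ≤ a ⊔ I ^ k := sup_le_sup_left (Ideal.pow_le_pow_right k.le_succ) _
    have hkill : ∀ c ∈ I, ∀ x : ↥(a ⊔ I ^ k),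
        c • x ∈ Submodule.comap (Submodule.subtype (a ⊔ I ^ k)) (a ⊔ I ^ (k + 1)) := by
      rintro c hc ⟨x, hx⟩
      have hcx : c * x ∈ I * (a ⊔ I ^ k) := Ideal.mul_mem_mul hc hx
      rw [Ideal.mul_sup, ← pow_succ'] at hcx
      exact (sup_le_sup_right Ideal.mul_le_right _ : I * a ⊔ I ^ (k + 1) ≤ a ⊔ I ^ (k + 1)) hcx
    let e := Submodule.comapSubtypeEquivOfLe (R := A) (M := A) hle
    have h := ih.comp ((rTensor_injective_of_quotient_killed hI _ hkill).comp
      (LinearEquiv.rTensor M e.symm).injective)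
    have heq : (a ⊔ I ^ (k + 1)).subtype.rTensor M =
        (a ⊔ I ^ k).subtype.rTensor M ∘ₗ
          (Submodule.comap (Submodule.subtype (a ⊔ I ^ k)) (a ⊔ I ^ (k + 1))).subtype.rTensor M ∘ₗ
            (LinearEquiv.rTensor M e.symm).toLinearMap := by
      ext x m
      simp [e]
    rw [heq]
    exact h

theorem flat_iff_flat_quotient_and_rTensor_injective (hnil : IsNilpotent I) :
    Module.Flat A M ↔ Module.Flat (A ⧸ I) ((A ⧸ I) ⊗[A] M) ∧ Injective (I.subtype.rTensor M) :=
  ⟨fun _ => ⟨inferInstance, Module.Flat.rTensor_preserves_injective_linearMap _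
      Subtype.val_injective⟩,
    fun h => haveI := h.1; flat_of_flat_quotient_of_rTensor_injective hnil h.2⟩

end Criterion

/-- Flatness after base change along `A → C` persists along a square `A → C → D`, `A → A' → D`. -/
lemma flat_baseChange_square {M : Type v} [AddCommGroup M] [Module A M]
    (C D A' : Type*) [CommRing C] [CommRing D] [CommRing A'] [Algebra A C] [Algebra A D]
    [Algebra A A'] [Algebra C D] [IsScalarTower A C D] [Algebra A' D] [IsScalarTower A A' D]
    (h : Module.Flat C (C ⊗[A] M)) : Module.Flat D (D ⊗[A'] (A' ⊗[A] M)) :=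
  Module.Flat.of_linearEquiv
    ((AlgebraTensorModule.cancelBaseChange A A' D D M) ≪≫ₗ
      (AlgebraTensorModule.cancelBaseChange A C D D M).symm)

lemma flat_quotient_quotient {M : Type v} [AddCommGroup M] [Module A M] (L₁ L₂ : Ideal A)
    (h : Module.Flat (A ⧸ L₁) ((A ⧸ L₁) ⊗[A] M)) :
    Module.Flat ((A ⧸ L₂) ⧸ L₁.map (Ideal.Quotient.mk L₂))
      (((A ⧸ L₂) ⧸ L₁.map (Ideal.Quotient.mk L₂)) ⊗[A ⧸ L₂] ((A ⧸ L₂) ⊗[A] M)) := by
  letI : Algebra (A ⧸ L₁) ((A ⧸ L₂) ⧸ L₁.map (Ideal.Quotient.mk L₂)) :=
    (Ideal.quotientMap _ (Ideal.Quotient.mk L₂) Ideal.le_comap_map).toAlgebra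
  haveI : IsScalarTower A (A ⧸ L₁) ((A ⧸ L₂) ⧸ L₁.map (Ideal.Quotient.mk L₂)) :=
    IsScalarTower.of_algebraMap_eq fun _ => rfl
  exact flat_baseChange_square (A ⧸ L₁) _ (A ⧸ L₂) h

section Family

/-- Square-zero step: `I * J = 0`, `M` flat modulo `I` and modulo `J`, and flat over a jointly
injective finite family of algebras. -/
lemma rTensor_injective_of_finite_family {I J : Ideal A} (hIJ : I * J = ⊥)
    {M : Type v} [AddCommGroup M] [Module A M] [Module.Flat (A ⧸ I) ((A ⧸ I) ⊗[A] M)]
    {ι : Type w} [Finite ι] (B : ι → Type*) [∀ i, CommRing (B i)] [∀ i, Algebra A (B i)]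
    (hB : ∀ a ∈ J, (∀ i, algebraMap A (B i) a = 0) → a = 0)
    [∀ i, Module.Flat (B i) (B i ⊗[A] M)] :
    Injective (J.subtype.rTensor M) := by
  classical
  haveI := Fintype.ofFinite ι
  rw [injective_iff_map_eq_zero]
  intro t ht
  let JB : ∀ i, Ideal (B i) := fun i => J.map (algebraMap A (B i))
  let j : ∀ i, J →ₗ[A] JB i := fun i =>
    { toFun := fun x => ⟨algebraMap A (B i) x, Ideal.mem_map_of_mem _ x.2⟩
      map_add' := fun x y => Subtype.ext (map_add _ _ _)
      map_smul' := fun c x => Subtype.ext (by simp [Algebra.smul_def]) }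
  have hjinj : Injective (LinearMap.pi j) := by
    rw [injective_iff_map_eq_zero]
    intro x hx
    exact Subtype.ext (hB x x.2 fun i => congrArg Subtype.val (congrFun hx i))
  have hkill : ∀ a ∈ I, ∀ x : (∀ i, JB i), a • x = 0 := by
    intro a ha x
    funext i
    refine Subtype.ext ?_
    show a • (x i : B i) = 0
    rw [Algebra.smul_def]
    have : algebraMap A (B i) a * (x i : B i) ∈ (I * J).map (algebraMap A (B i)) := by
      rw [Ideal.map_mul]
      exact Ideal.mul_mem_mul (Ideal.mem_map_of_mem _ ha) (x i).2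
    simpa [hIJ] using this
  have hinj := rTensor_injective_of_smul_eq_bot (I := I) (M := M) _ hjinj hkill
  refine hinj ?_
  rw [map_zero]
  -- a tensor in a finite product is zero as soon as its components are
  have hz : ∀ z : (∀ i, JB i) ⊗[A] M,
      (∀ i, (LinearMap.proj i).rTensor M z = 0) → z = 0 := by
    intro z hz
    have he : z = ∑ i : ι, (LinearMap.single A (fun i => JB i) i).rTensor M
        ((LinearMap.proj i).rTensor M z) := by
      clear hz
      induction z with
      | zero => simp
      | tmul x m => simp [← TensorProduct.sum_tmul, Finset.univ_sum_single]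
      | add a b ha hb =>
        conv_lhs => rw [ha, hb]
        simp only [map_add, Finset.sum_add_distrib]
    rw [he]
    simp [hz]
  refine hz _ fun i => ?_
  rw [← LinearMap.rTensor_comp_apply]
  show (j i).rTensor M t = 0
  -- `JB i ⊗[A] M → B i ⊗[A] M` is injective by flatness
  have hi : Injective (((JB i).subtype.restrictScalars A).rTensor M) := by
    have h := Module.Flat.rTensor_preserves_injective_linearMap
      (M := B i ⊗[A] M) (JB i).subtype Subtype.val_injective
    let e := AlgebraTensorModule.cancelBaseChange A (B i) (B i) (JB i) M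
    let e' := AlgebraTensorModule.cancelBaseChange A (B i) (B i) (B i) M
    have hc : ∀ z, ((JB i).subtype.restrictScalars A).rTensor M z =
        e' ((JB i).subtype.rTensor (B i ⊗[A] M) (e.symm z)) := by
      intro z
      induction z with
      | zero => simp
      | tmul n m => simp [e, e']
      | add a b ha hb => simp [map_add, ha, hb]
    intro z z' hzz
    rw [hc, hc] at hzz
    exact e.symm.injective (h (e'.injective hzz))
  refine hi ?_
  rw [map_zero, ← LinearMap.rTensor_comp_apply]
  show ((Algebra.linearMap A (B i)) ∘ₗ J.subtype).rTensor M t = 0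
  rw [LinearMap.rTensor_comp_apply, ht, map_zero]

end Family

/-- Flatness is detected by a finite jointly injective family of algebras once it holds modulo a
nilpotent ideal. -/
theorem flat_of_flat_quotient_of_finite_family {I : Ideal A} (hI : IsNilpotent I)
    {M : Type v} [AddCommGroup M] [Module A M] [Module.Flat (A ⧸ I) ((A ⧸ I) ⊗[A] M)]
    {ι : Type w} [Finite ι] (B : ι → Type u) [∀ i, CommRing (B i)] [∀ i, Algebra A (B i)]
    (hB : ∀ a : A, (∀ i, algebraMap A (B i) a = 0) → a = 0)
    [∀ i, Module.Flat (B i) (B i ⊗[A] M)] : Module.Flat A M := by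
  let L : ℕ → Ideal A := fun k => ⨅ i, ((I.map (algebraMap A (B i))) ^ k).comap (algebraMap A (B i))
  obtain ⟨n, hn⟩ := hI
  have hIk : ∀ k, I ^ k ≤ L k := fun k => le_iInf fun i => by
    rw [← Ideal.map_le_iff_le_comap, Ideal.map_pow]
  have hIL : ∀ k, I * L k ≤ L (k + 1) := fun k => le_iInf fun i => by
    rw [← Ideal.map_le_iff_le_comap, Ideal.map_mul, pow_succ']
    exact Ideal.mul_mono_right (Ideal.map_le_iff_le_comap.2 (iInf_le _ i))
  have hanti : ∀ k, L (k + 1) ≤ L k := fun k =>
    iInf_mono fun i => Ideal.comap_mono (Ideal.pow_le_pow_right k.le_succ)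
  have hLn : L n = ⊥ := by
    refine le_bot_iff.1 fun a ha => hB a fun i => ?_
    have := (Ideal.mem_iInf.1 ha) i
    rw [Ideal.mem_comap, ← Ideal.map_pow, hn, Ideal.zero_eq_bot, Ideal.map_bot] at this
    exact this
  -- flatness modulo `L k` for every `k ≥ 1`
  suffices key : ∀ k, Module.Flat (A ⧸ L (k + 1)) ((A ⧸ L (k + 1)) ⊗[A] M) by
    have hbot : L (n + 1) = ⊥ := le_bot_iff.1 ((hanti n).trans hLn.le)
    have := key n
    rw [hbot] at this
    haveI := this
    letI : Algebra (A ⧸ (⊥ : Ideal A)) A :=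
      (RingEquiv.quotientBot A).toRingHom.toAlgebra
    haveI : IsScalarTower A (A ⧸ (⊥ : Ideal A)) A := IsScalarTower.of_algebraMap_eq fun _ => rfl
    exact Module.Flat.of_linearEquiv
      ((TensorProduct.lid A M).symm ≪≫ₗ
        (AlgebraTensorModule.cancelBaseChange A (A ⧸ (⊥ : Ideal A)) A A M).symm)
  intro k
  induction k with
  | zero =>
    have hle : I ≤ L 1 := by simpa using hIk 1
    letI : Algebra (A ⧸ I) (A ⧸ L (0 + 1)) := (Ideal.Quotient.factor hle).toAlgebra
    haveI : IsScalarTower A (A ⧸ I) (A ⧸ L (0 + 1)) := IsScalarTower.of_algebraMap_eq fun _ => rfl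
    exact Module.Flat.of_linearEquiv
      (AlgebraTensorModule.cancelBaseChange A (A ⧸ I) (A ⧸ L (0 + 1)) (A ⧸ L (0 + 1)) M).symm
  | succ k ih =>
    let A' := A ⧸ L (k + 2)
    let M' := A' ⊗[A] M
    let J : Ideal A' := (L (k + 1)).map (Ideal.Quotient.mk _)
    let I' : Ideal A' := I.map (Ideal.Quotient.mk _)
    let B' : ι → Type u := fun i => B i ⧸ (I.map (algebraMap A (B i))) ^ (k + 2)
    letI alg : ∀ i, Algebra A' (B' i) := fun i =>
      (Ideal.quotientMap _ (algebraMap A (B i)) (iInf_le _ i)).toAlgebra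
    haveI : ∀ i, IsScalarTower A A' (B' i) := fun i => IsScalarTower.of_algebraMap_eq fun _ => rfl
    have hnilJ : IsNilpotent J := ⟨2, by
      rw [Ideal.zero_eq_bot, ← le_bot_iff, pow_two, ← Ideal.map_mul,
        Ideal.map_le_iff_le_comap, ← RingHom.ker_eq_comap_bot, Ideal.mk_ker]
      refine le_iInf fun i => ?_
      rw [← Ideal.map_le_iff_le_comap, Ideal.map_mul]
      refine (Ideal.mul_mono (Ideal.map_le_iff_le_comap.2 (iInf_le _ i))
        (Ideal.map_le_iff_le_comap.2 (iInf_le _ i))).trans ?_
      rw [← pow_add]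
      exact Ideal.pow_le_pow_right (by omega)⟩
    have hIJ : I' * J = ⊥ := by
      rw [← le_bot_iff, ← Ideal.map_mul, Ideal.map_le_iff_le_comap, ← RingHom.ker_eq_comap_bot,
        Ideal.mk_ker]
      exact hIL (k + 1)
    haveI hflatI : Module.Flat (A' ⧸ I') ((A' ⧸ I') ⊗[A'] M') :=
      flat_quotient_quotient I (L (k + 2)) inferInstance
    haveI hflatB : ∀ i, Module.Flat (B' i) (B' i ⊗[A'] M') := fun i =>
      flat_baseChange_square (B i) (B' i) A' inferInstance
    have hJ := rTensor_injective_of_finite_family (M := M') hIJ B' (by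
      rintro a - ha
      obtain ⟨a, rfl⟩ := Ideal.Quotient.mk_surjective a
      rw [Ideal.Quotient.eq_zero_iff_mem]
      exact Ideal.mem_iInf.2 fun i => Ideal.mem_comap.2
        ((Ideal.Quotient.eq_zero_iff_mem).1
          (show Ideal.Quotient.mk _ (algebraMap A (B i) a) = 0 from ha i)))
    haveI hflatJ : Module.Flat (A' ⧸ J) ((A' ⧸ J) ⊗[A'] M') :=
      flat_quotient_quotient (L (k + 1)) (L (k + 2)) ih
    exact flat_of_flat_quotient_of_rTensor_injective hnilJ hJ

end Groth.EGA43Flat
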