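import Mathlib.RingTheory.Flat.EquationalCriterion
import Mathlib.RingTheory.Flat.Stability
import Mathlib.RingTheory.Flat.Localization
import Mathlib.RingTheory.LocalRing.Module
import Mathlib.LinearAlgebra.DirectSum.Finsupp
import Mathlib.LinearAlgebra.TensorProduct.RightExactness
import Mathlib.LinearAlgebra.TensorProduct.Quotient
import Mathlib.RingTheory.Nilpotent.Defs
import Mathlib.RingTheory.TensorProduct.Free

/-!
# Modules free modulo a nilpotent ideal: the ideal of the flattening locus
-/

open TensorProduct Function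

namespace Groth.EGA43Flat

universe u v w

variable {A : Type u} [CommRing A] {M : Type v} [AddCommGroup M] [Module A M]

lemma eq_bot_of_le_smul_of_isNilpotent {J : Ideal A} (hJ : IsNilpotent J) {N : Submodule A M}
    (h : N ≤ J • N) : N = ⊥ := by
  obtain ⟨n, hn⟩ := hJ
  have : ∀ k, N ≤ J ^ k • N := fun k => by
    induction k with
    | zero => simp
    | succ k ih =>
      rw [pow_succ', Submodule.mul_smul]
      exact h.trans (Submodule.smul_mono le_rfl ih)
  exact le_bot_iff.1 ((this n).trans (by simp [hn]))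

/-- A surjection onto a flat module which is minimal modulo a nilpotent ideal is injective. -/
lemma injective_of_ker_le_smul_top {J : Ideal A} (hJ : IsNilpotent J) [Module.Flat A M]
    {F : Type w} [AddCommGroup F] [Module A F] (φ : F →ₗ[A] M) (hφ : Surjective φ)
    (hker : LinearMap.ker φ ≤ J • (⊤ : Submodule A F)) : Injective φ := by
  rw [← LinearMap.ker_eq_bot]
  refine eq_bot_of_le_smul_of_isNilpotent hJ fun k hk => ?_
  obtain ⟨n, r, g, rfl⟩ := Submodule.mem_span_set'.mp
    (show k ∈ Submodule.span A {x : F | ∃ a ∈ J, ∃ y : F, a • y = x} from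
      Submodule.smul_induction_on (hker hk)
        (fun a ha y _ => Submodule.subset_span ⟨a, ha, y, rfl⟩) fun _ _ => Submodule.add_mem _)
  choose a ha y hy using fun i => (g i).2
  have hk' : ∑ i, (r i * a i) • φ (y i) = 0 := by
    have h0 : φ (∑ i, r i • (g i : F)) = 0 := hk
    rw [map_sum] at h0
    rw [← h0]
    refine Finset.sum_congr rfl fun i _ => ?_
    rw [← hy i, map_smul, map_smul, mul_smul]
  obtain ⟨m, b, z, hb, hab⟩ := Module.Flat.isTrivialRelation_of_sum_smul_eq_zero hk'
  choose w hw using fun j => hφ (z j)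
  have key : ∑ i, r i • (g i : F) = ∑ i, (r i * a i) • (y i - ∑ j, b i j • w j) := by
    simp only [smul_sub, Finset.sum_sub_distrib, Finset.smul_sum, smul_smul]
    rw [Finset.sum_comm (f := fun i j => (r i * a i * b i j) • w j)]
    simp only [← Finset.sum_smul, hab, zero_smul, Finset.sum_const_zero, sub_zero]
    exact Finset.sum_congr rfl fun i _ => by rw [← hy i, smul_smul]
  rw [key]
  refine Submodule.sum_mem _ fun i _ => Submodule.smul_mem_smul (J.mul_mem_left _ (ha i)) ?_
  simp [LinearMap.mem_ker, hw, hb]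

lemma surjective_of_mod_nilpotent {J : Ideal A} (hJ : IsNilpotent J)
    {F : Type w} [AddCommGroup F] [Module A F] (φ : F →ₗ[A] M)
    (h : ∀ m : M, ∃ f, φ f - m ∈ J • (⊤ : Submodule A M)) : Surjective φ := by
  obtain ⟨n, hn⟩ := hJ
  rw [← LinearMap.range_eq_top]
  have h1 : (⊤ : Submodule A M) ≤ LinearMap.range φ ⊔ J • ⊤ := fun m _ => by
    obtain ⟨f, hf⟩ := h m
    exact Submodule.mem_sup.2 ⟨φ f, ⟨f, rfl⟩, -(φ f - m), Submodule.neg_mem _ hf, by abel⟩
  have : ∀ k, (⊤ : Submodule A M) ≤ LinearMap.range φ ⊔ J ^ k • ⊤ := fun k => by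
    induction k with
    | zero => simp
    | succ k ih =>
      refine ih.trans (sup_le le_sup_left ?_)
      refine (Submodule.smul_mono le_rfl h1).trans ?_
      rw [Submodule.smul_sup, ← Submodule.mul_smul, ← pow_succ]
      exact sup_le_sup_right Submodule.smul_le_right _
  exact top_le_iff.1 ((this n).trans (by simp [hn]))

/-- Elements killed by the base change of a surjection come from its kernel. -/
lemma mem_range_lTensor_ker (A' : Type*) [AddCommGroup A'] [Module A A'] {F : Type w} [AddCommGroup F]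
    [Module A F] {φ : F →ₗ[A] M} (hφ : Surjective φ) (z : A' ⊗[A] F) (hz : φ.lTensor A' z = 0) :
    z ∈ LinearMap.range ((LinearMap.ker φ).subtype.lTensor A') :=
  (lTensor_exact A' (LinearMap.exact_subtype_ker_map φ) hφ z).1 hz

/-- Over a module which is free modulo a nilpotent ideal, freeness and flatness after any base
change are governed by one ideal. -/
theorem exists_flattening_ideal {J : Ideal A} (hJ : IsNilpotent J)
    [Module.Free (A ⧸ J) ((A ⧸ J) ⊗[A] M)] :
    ∃ R₀ : Ideal A, R₀ ≤ J ∧ ∀ (A' : Type u) [CommRing A'] [Algebra A A'],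
      (Module.Free A' (A' ⊗[A] M) ↔ R₀.map (algebraMap A A') = ⊥) ∧
      (Module.Flat A' (A' ⊗[A] M) ↔ R₀.map (algebraMap A A') = ⊥) := by
  classical
  let ι := Module.Free.ChooseBasisIndex (A ⧸ J) ((A ⧸ J) ⊗[A] M)
  let b : Module.Basis ι (A ⧸ J) ((A ⧸ J) ⊗[A] M) := Module.Free.chooseBasis _ _
  have hsurj : ∀ x : (A ⧸ J) ⊗[A] M, ∃ m : M, (1 : A ⧸ J) ⊗ₜ[A] m = x := fun x => by
    induction x with
    | zero => exact ⟨0, by simp⟩
    | tmul c m =>
      obtain ⟨c, rfl⟩ := Ideal.Quotient.mk_surjective c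
      exact ⟨c • m, by rw [← TensorProduct.smul_tmul, Algebra.smul_def]; simp⟩
    | add x y hx hy =>
      obtain ⟨m, rfl⟩ := hx
      obtain ⟨m', rfl⟩ := hy
      exact ⟨m + m', tmul_add _ _ _⟩
  choose v hv using fun i => hsurj (b i)
  let φ : (ι →₀ A) →ₗ[A] M := Finsupp.linearCombination A v
  -- modulo `J`, `φ` sends the standard basis to a basis
  have hmod : ∀ f : ι →₀ A, (1 : A ⧸ J) ⊗ₜ[A] φ f =
      b.repr.symm (f.mapRange (Ideal.Quotient.mk J) (map_zero _)) := by
    intro f
    induction f using Finsupp.induction_linear with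
    | zero => simp
    | add f g hf hg =>
      rw [map_add, tmul_add, hf, hg, Finsupp.mapRange_add (map_add _), map_add]
    | single i a =>
      rw [Finsupp.mapRange_single, Module.Basis.repr_symm_single, ← hv,
        Finsupp.linearCombination_single, tmul_smul]
      exact (algebraMap_smul (A ⧸ J) a _).symm
  have hφ : Surjective φ := by
    refine surjective_of_mod_nilpotent hJ φ fun m => ?_
    have hlift : Surjective (Finsupp.mapRange (α := ι) (Ideal.Quotient.mk J) (map_zero _)) :=
      Finsupp.mapRange_surjective _ _ Ideal.Quotient.mk_surjective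
    obtain ⟨f, hf⟩ := hlift (b.repr ((1 : A ⧸ J) ⊗ₜ m))
    refine ⟨f, ?_⟩
    rw [← Submodule.Quotient.mk_eq_zero, ← quotTensorEquivQuotSMul_mk_one_tmul,
      EmbeddingLike.map_eq_zero_iff, tmul_sub, hmod, hf, LinearEquiv.symm_apply_apply, sub_self]
  have hker : ∀ k ∈ LinearMap.ker φ, ∀ i, k i ∈ J := by
    intro k hk i
    have := hmod k
    rw [LinearMap.mem_ker.1 hk, tmul_zero, eq_comm, EmbeddingLike.map_eq_zero_iff] at this
    exact Ideal.Quotient.eq_zero_iff_mem.1 (by simpa using DFunLike.congr_fun this i)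
  let R₀ : Ideal A := Ideal.span {a | ∃ k ∈ LinearMap.ker φ, ∃ i, k i = a}
  refine ⟨R₀, Ideal.span_le.2 fun a ⟨k, hk, i, hi⟩ => hi ▸ hker k hk i, fun A' _ _ => ?_⟩
  let ψ := φ.baseChange A'
  have hψ : Surjective ψ := LinearMap.lTensor_surjective A' hφ
  have hex : ∀ z, ψ z = 0 → z ∈ LinearMap.range ((LinearMap.ker φ).subtype.lTensor A') :=
    fun z hz => mem_range_lTensor_ker A' hφ z hz
  have zero_imp : R₀.map (algebraMap A A') = ⊥ → Module.Free A' (A' ⊗[A] M) := by
    intro h
    have hinj : Injective ψ := by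
      rw [← LinearMap.ker_eq_bot, eq_bot_iff]
      intro z hz
      obtain ⟨t, rfl⟩ := hex z hz
      rw [Submodule.mem_bot]
      induction t with
      | zero => simp
      | tmul c k =>
        refine (finsuppScalarRight A A A' ι).injective (Finsupp.ext fun i => ?_)
        rw [LinearMap.lTensor_tmul, finsuppScalarRight_apply_tmul_apply, map_zero,
          Submodule.subtype_apply, Algebra.smul_def]
        have : algebraMap A A' ((k : ι →₀ A) i) = 0 := by
          rw [← Ideal.mem_bot, ← h]
          exact Ideal.mem_map_of_mem _ (Ideal.subset_span ⟨k, k.2, i, rfl⟩)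
        simp [this]
      | add a b ha hb =>
        rw [map_add, ha (LinearMap.mem_ker.2 ?_), hb (LinearMap.mem_ker.2 ?_), add_zero] <;>
        · show φ.lTensor A' _ = 0
          rw [← LinearMap.lTensor_comp_apply, show φ ∘ₗ (LinearMap.ker φ).subtype = 0 from
            LinearMap.comp_ker_subtype φ, LinearMap.lTensor_zero]
          rfl
    exact Module.Free.of_equiv (LinearEquiv.ofBijective ψ ⟨hinj, hψ⟩)
  have flat_imp : Module.Flat A' (A' ⊗[A] M) → R₀.map (algebraMap A A') = ⊥ := by
    intro hflat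
    have hnil : IsNilpotent (J.map (algebraMap A A')) := by
      obtain ⟨n, hn⟩ := hJ
      exact ⟨n, by rw [← Ideal.map_pow, hn, Ideal.zero_eq_bot, Ideal.map_bot, Ideal.zero_eq_bot]⟩
    have hle : LinearMap.ker ψ ≤ J.map (algebraMap A A') • ⊤ := by
      intro z hz
      obtain ⟨t, rfl⟩ := hex z hz
      clear hz
      induction t with
      | zero => simp
      | tmul c k =>
        rw [LinearMap.lTensor_tmul, Submodule.subtype_apply,
          ← (k : ι →₀ A).sum_single, Finsupp.sum, tmul_sum]
        refine Submodule.sum_mem _ fun i _ => ?_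
        rw [← mul_one ((k : ι →₀ A) i), ← Finsupp.smul_single', tmul_smul,
          ← algebraMap_smul A' ((k : ι →₀ A) i) (c ⊗ₜ[A] (Finsupp.single i 1 : ι →₀ A))]
        exact Submodule.smul_mem_smul (Ideal.mem_map_of_mem _ (hker k k.2 i)) Submodule.mem_top
      | add a b ha hb => rw [map_add]; exact Submodule.add_mem _ ha hb
    have hinj := injective_of_ker_le_smul_top hnil ψ hψ hle
    rw [Ideal.map_span, Ideal.span_eq_bot]
    rintro _ ⟨a, ⟨k, hk, i, rfl⟩, rfl⟩
    have h0 : (1 : A') ⊗ₜ[A] k = 0 := hinj (by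
      rw [map_zero, LinearMap.baseChange_tmul, LinearMap.mem_ker.1 hk, tmul_zero])
    have := DFunLike.congr_fun (congrArg (finsuppScalarRight A A A' ι) h0) i
    simpa [Algebra.smul_def] using this
  exact ⟨⟨fun _ => flat_imp inferInstance, zero_imp⟩,
    ⟨flat_imp, fun h => haveI := zero_imp h; inferInstance⟩⟩

/-- A module free modulo a nilpotent ideal, free after base change to a jointly injective family
of algebras, is free. -/
theorem free_of_flat_family {J : Ideal A} (hJ : IsNilpotent J)
    [Module.Free (A ⧸ J) ((A ⧸ J) ⊗[A] M)]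
    {ι : Type*} (B : ι → Type u) [∀ i, CommRing (B i)] [∀ i, Algebra A (B i)]
    (hB : ∀ a : A, (∀ i, algebraMap A (B i) a = 0) → a = 0)
    [∀ i, Module.Flat (B i) (B i ⊗[A] M)] : Module.Free A M := by
  obtain ⟨R₀, -, h⟩ := exists_flattening_ideal (M := M) hJ
  have h0 : R₀ = ⊥ := le_bot_iff.1 fun a ha => hB a fun i => by
    have := (h (B i)).2.1 inferInstance
    rw [← Ideal.mem_bot, ← this]
    exact Ideal.mem_map_of_mem _ ha
  have := (h A).1.2 (by rw [h0, Ideal.map_bot])
  exact Module.Free.of_equiv (TensorProduct.lid A M)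

/-- Over a semilocal ring with nilpotent Jacobson radical flatness is detected by a jointly
injective family of algebras. -/
theorem flat_of_semilocal_nilpotent [Finite (MaximalSpectrum A)]
    (hnil : IsNilpotent (Ring.jacobson A))
    {ι : Type u} (B : ι → Type u) [∀ i, CommRing (B i)] [∀ i, Algebra A (B i)]
    (hB : ∀ a : A, (∀ i, algebraMap A (B i) a = 0) → a = 0)
    {M : Type u} [AddCommGroup M] [Module A M]
    [∀ i, Module.Flat (B i) (B i ⊗[A] M)] : Module.Flat A M := by
  classical
  obtain ⟨N, hN⟩ := hnil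
  refine Module.flat_of_localized_maximal M fun P hP => ?_
  haveI := Fintype.ofFinite (MaximalSpectrum A)
  let P₀ : MaximalSpectrum A := ⟨P, hP⟩
  -- an element outside `P` killing `P ^ N`
  let Q : Ideal A := ∏ m ∈ Finset.univ.erase P₀, m.asIdeal
  obtain ⟨e, heQ, heP⟩ : ∃ e, e ∈ Q ^ N ∧ e ∉ P := by
    refine SetLike.not_le_iff_exists.1 fun hle => ?_
    obtain ⟨m, hm, hmP⟩ := (Ideal.IsPrime.prod_le hP.isPrime).1 (hP.isPrime.le_of_pow_le hle)
    exact (Finset.mem_erase.1 hm).1 (MaximalSpectrum.ext (m.isMaximal.eq_of_le hP.ne_top hmP))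
  have hkill : ∀ c ∈ P ^ N, e * c = 0 := by
    intro c hc
    have h1 : e * c ∈ Q ^ N * P ^ N := Ideal.mul_mem_mul heQ hc
    have h2 : Q * P ≤ Ring.jacobson A := by
      rw [Ring.jacobson_eq_sInf_isMaximal]
      refine le_sInf fun m hm => ?_
      by_cases hmP : m = P
      · exact hmP ▸ Ideal.mul_le_right
      · exact Ideal.mul_le_left.trans ((Ideal.prod_le_inf).trans
          (Finset.inf_le (b := (⟨m, hm⟩ : MaximalSpectrum A))
            (Finset.mem_erase.2 ⟨fun he => hmP (congrArg MaximalSpectrum.asIdeal he),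
              Finset.mem_univ _⟩)))
    rw [← mul_pow] at h1
    simpa [hN] using Ideal.pow_right_mono h2 N h1
  let AP := Localization.AtPrime P
  have hnilP : IsNilpotent (IsLocalRing.maximalIdeal AP) := by
    refine ⟨N, ?_⟩
    rw [← Localization.AtPrime.map_eq_maximalIdeal, ← Ideal.map_pow, Ideal.zero_eq_bot,
      Ideal.map_eq_bot_iff_le_ker]
    intro c hc
    rw [RingHom.mem_ker, IsLocalization.map_eq_zero_iff P.primeCompl]
    exact ⟨⟨e, heP⟩, hkill c hc⟩
  haveI : Module.Free (AP ⧸ IsLocalRing.maximalIdeal AP)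
      ((AP ⧸ IsLocalRing.maximalIdeal AP) ⊗[AP] LocalizedModule P.primeCompl M) :=
    letI := Ideal.Quotient.field (IsLocalRing.maximalIdeal AP)
    Module.Free.of_divisionRing (AP ⧸ IsLocalRing.maximalIdeal AP) _
  let C : ι → Type u := fun i => AP ⊗[A] B i
  letI : ∀ i, Algebra (B i) (C i) := fun i => Algebra.TensorProduct.rightAlgebra
  haveI : ∀ i, IsScalarTower A (B i) (C i) := fun i => IsScalarTower.of_algebraMap_eq fun a => by
    show algebraMap A AP a ⊗ₜ 1 = (1 : AP) ⊗ₜ algebraMap A (B i) a
    rw [Algebra.algebraMap_eq_smul_one, Algebra.algebraMap_eq_smul_one, smul_tmul]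
  let eM : AP ⊗[A] M ≃ₗ[AP] LocalizedModule P.primeCompl M :=
    ((IsLocalizedModule.isBaseChange P.primeCompl AP
      (LocalizedModule.mkLinearMap P.primeCompl M)).equiv)
  haveI : ∀ i, Module.Flat (C i) (C i ⊗[AP] LocalizedModule P.primeCompl M) := fun i =>
    Module.Flat.of_linearEquiv
      ((AlgebraTensorModule.congr (LinearEquiv.refl (C i) (C i)) eM.symm) ≪≫ₗ
        (AlgebraTensorModule.cancelBaseChange A AP (C i) (C i) M) ≪≫ₗ
          (AlgebraTensorModule.cancelBaseChange A (B i) (C i) (C i) M).symm)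
  haveI := free_of_flat_family (M := LocalizedModule P.primeCompl M) hnilP C (fun x hx => by
    obtain ⟨a, s, rfl⟩ := IsLocalization.exists_mk'_eq P.primeCompl x
    rw [IsLocalization.mk'_eq_zero_iff]
    refine ⟨⟨e, heP⟩, hB _ fun i => ?_⟩
    have h1 : (algebraMap A AP a) ⊗ₜ[A] (1 : B i) = 0 := by
      have h2 : algebraMap AP (C i) (algebraMap A AP a) = 0 := by
        rw [← IsLocalization.mk'_spec AP a s, map_mul, hx i, zero_mul]
      exact h2
    haveI : IsLocalizedModule P.primeCompl (TensorProduct.mk A AP (B i) 1) :=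
      (isLocalizedModule_iff_isBaseChange P.primeCompl AP _).2 (TensorProduct.isBaseChange A (B i) AP)
    rw [Algebra.algebraMap_eq_smul_one, ← smul_tmul', ← tmul_smul] at h1
    obtain ⟨t, ht⟩ := (IsLocalizedModule.eq_zero_iff P.primeCompl
      (TensorProduct.mk A AP (B i) 1)).1 h1
    -- `t` is invertible modulo `P ^ N`
    obtain ⟨u, c, hc, huc⟩ : ∃ u, ∃ c ∈ P ^ N, u * (t : A) + c = 1 := by
      have hco : Ideal.span {(t : A)} ⊔ P ^ N = ⊤ := by
        refine Ideal.sup_pow_eq_top (hP.out.2 _ (lt_of_le_of_ne le_sup_right fun he => t.2 ?_))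
        exact (SetLike.ext_iff.1 he (t : A)).2 (Ideal.mem_sup_left (Ideal.mem_span_singleton_self _))
      obtain ⟨p, hp, c, hc, hpc⟩ := Submodule.mem_sup.1 (hco.symm ▸ Submodule.mem_top (x := (1 : A)))
      obtain ⟨u, rfl⟩ := Ideal.mem_span_singleton'.1 hp
      exact ⟨u, c, hc, hpc⟩
    have he : e = u * (t : A) * e := by
      conv_lhs => rw [← one_mul e, ← huc, add_mul, mul_comm c, hkill c hc, add_zero]
    show algebraMap A (B i) (e * a) = 0
    rw [he, map_mul, map_mul, map_mul]
    rw [Algebra.smul_def, mul_one] at ht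
    rw [Submonoid.smul_def, Algebra.smul_def] at ht
    calc algebraMap A (B i) u * algebraMap A (B i) t * algebraMap A (B i) e * algebraMap A (B i) a
        = algebraMap A (B i) u * algebraMap A (B i) e *
          (algebraMap A (B i) t * algebraMap A (B i) a) := by ring
      _ = 0 := by rw [ht, mul_zero])
  exact Module.Flat.trans A AP (LocalizedModule P.primeCompl M)

end Groth.EGA43Flat
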